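import Cfsg.Agent.Chev.ReeF4.Stmts
import Cfsg.Agent.Chev.ReeF4BT.Main
import Cfsg.Agent.Chev.Parabolic

/-!
The parabolic pieces of `²F₄` on the two sides of the torus.
-/

set_option autoImplicit false
set_option maxRecDepth 100000
set_option maxHeartbeats 1000000

namespace Cfsg.Agent.F4Square

open Cfsg.Lie Cfsg.Agent.Chev Cfsg.Agent.Chev.ReeF4
open scoped MatrixGroups

universe u

theorem long_commute : ∀ (a : Fin 2) (r : Fin chevF4.nroots),
    wA a (pW (wd 15) r) = pW (wd 15) (wA a r) := by decide +kernel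

theorem long_orbit : ∀ (a : Fin 2) (r : Fin chevF4.nroots), half chevF4 ≤ (r : ℕ) →
    (wA a r : ℕ) < half chevF4 →
    half chevF4 ≤ (wA a (pW (wd 15) r) : ℕ) ∧
      (wA a (wA a (pW (wd 15) r)) : ℕ) < half chevF4 := by decide +kernel

theorem long_sq : ∀ r : Fin chevF4.nroots, pW (wd 15) (pW (wd 15) r) = r := by decide +kernel

variable {K : Type u} [Field K] [CharP K 2] {m : ℕ}

/-- The longest monomial element. -/
abbrev n0 : GL chevF4.Idx K := nW (wd 15)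

/-- The rational points of the radical of an orbit. -/
noncomputable def Rd (K : Type u) [Field K] [CharP K 2] (m : ℕ) (a : Fin 2) :
    Subgroup (GL chevF4.Idx K) :=
  uPlus facts_chevF4 (wA a) ⊓ fx m

/-- The opposite unipotent group. -/
noncomputable def oppU (K : Type u) [Field K] [CharP K 2] (m : ℕ) : Subgroup (GL chevF4.Idx K) :=
  (U1 K m).map (MulAut.conj (n0 : GL chevF4.Idx K)).toMonoidHom

/-- The opposite radical of an orbit. -/
noncomputable def Rn (K : Type u) [Field K] [CharP K 2] (m : ℕ) (a : Fin 2) :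
    Subgroup (GL chevF4.Idx K) :=
  (Rd K m a).map (MulAut.conj (n0 : GL chevF4.Idx K)).toMonoidHom

theorem n0_inv : (n0 : GL chevF4.Idx K)⁻¹ = n0 := by
  refine inv_eq_of_mul_eq_one_right ?_
  rw [← nW_append, nW_congr (vs := []) ?_, nW_nil]
  rw [pW_append, pW_nil]
  exact Equiv.ext fun r => long_sq r

theorem mem_oppU {g : GL chevF4.Idx K} : g ∈ oppU K m ↔ n0 * g * n0 ∈ U1 K m := by
  constructor
  · rintro ⟨v, hv, rfl⟩
    show n0 * (n0 * v * n0⁻¹) * n0 ∈ U1 K m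
    conv => arg 2; rw [show (n0 : GL chevF4.Idx K) * (n0 * v * n0⁻¹) * n0 = (n0 * n0) * v * (n0⁻¹ * n0) by group]
    rw [mul_eq_one_iff_inv_eq.2 n0_inv, inv_mul_cancel, one_mul, mul_one]
    exact hv
  · intro h
    exact ⟨_, h, by
      show n0 * (n0 * g * n0) * n0⁻¹ = g
      rw [show (n0 : GL chevF4.Idx K) * (n0 * g * n0) * n0⁻¹ = (n0 * n0) * g by group,
        mul_eq_one_iff_inv_eq.2 n0_inv, one_mul]⟩

theorem mem_Rn {a : Fin 2} {g : GL chevF4.Idx K} : g ∈ Rn K m a ↔ n0 * g * n0 ∈ Rd K m a := by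
  constructor
  · rintro ⟨v, hv, rfl⟩
    show n0 * (n0 * v * n0⁻¹) * n0 ∈ Rd K m a
    rw [show (n0 : GL chevF4.Idx K) * (n0 * v * n0⁻¹) * n0 = (n0 * n0) * v by group,
      mul_eq_one_iff_inv_eq.2 n0_inv, one_mul]
    exact hv
  · intro h
    exact ⟨_, h, by
      show n0 * (n0 * g * n0) * n0⁻¹ = g
      rw [show (n0 : GL chevF4.Idx K) * (n0 * g * n0) * n0⁻¹ = (n0 * n0) * g by group,
        mul_eq_one_iff_inv_eq.2 n0_inv, one_mul]⟩

theorem Rd_le (a : Fin 2) : Rd K m a ≤ U1 K m :=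
  inf_le_inf_right _ (closure_uGens_le facts_chevF4 _)

theorem Rn_le (a : Fin 2) : Rn K m a ≤ oppU K m := Subgroup.map_mono (Rd_le a)

omit [CharP K 2] in
theorem radical_eq (a : Fin 2) :
    chevF4.unipotentRadical K (jA a) = uPlus facts_chevF4 (wA a) := by
  refine unipotentRadical_eq facts_chevF4 (jA a) fun r hr => ((wA_inverted a r hr).2.trans ?_)
  refine forall_congr' fun j => imp_congr_left ?_
  rw [not_iff_not, mem_idxSet]
  exact ⟨fun h => ⟨j, h, rfl⟩, fun ⟨i, hi, e⟩ => Fin.ext e ▸ hi⟩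

theorem Pa_Rd {a : Fin 2} {x y : GL chevF4.Idx K} (hx : x ∈ Pa K m a) (hy : y ∈ Rd K m a) :
    x * y * x⁻¹ ∈ Rd K m a := by
  refine ⟨?_, Subgroup.mul_mem _ (Subgroup.mul_mem _ hx.2 hy.2) (Subgroup.inv_mem _ hx.2)⟩
  rw [← radical_eq]
  exact (Subgroup.mem_normalizer_iff.1
    (parabolic_le_normalizer facts_chevF4 (jA a) hx.1) y).1 (by rw [radical_eq]; exact hy.1)

theorem Pa_Rn {a : Fin 2} {x y : GL chevF4.Idx K} (hx : n0 * x * n0 ∈ Pa K m a)
    (hy : y ∈ Rn K m a) : x * y * x⁻¹ ∈ Rn K m a := by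
  rw [mem_Rn] at hy ⊢
  have := Pa_Rd hx hy
  have e := n0_inv (K := K)
  convert this using 1
  rw [mul_inv_rev, mul_inv_rev, e]
  calc n0 * (x * y * x⁻¹) * n0 = n0 * x * (n0 * n0) * y * (n0 * n0) * x⁻¹ * n0 := by
        rw [mul_eq_one_iff_inv_eq.2 e]; group
    _ = _ := by group

/-- The piece of an orbit on the opposite side. -/
def Ym (K : Type u) [Field K] [CharP K 2] (m : ℕ) (a : Fin 2) (g : GL chevF4.Idx K) : Prop :=
  sO a * g * sO a ∈ fm K m (wA a)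

theorem n0_fm {a : Fin 2} {y : GL chevF4.Idx K} (hy : y ∈ fm K m (wA a)) :
    Ym K m a (n0 * y * n0) := by
  have hn := isMon_mul facts_chevF4.{u} (isMon_sO (K := K) a) (isMon_nW (K := K) (wd 15))
  have e : sO a * (n0 * y * n0) * sO a = (sO a * n0) * y * (sO a * n0 : GL chevF4.Idx K)⁻¹ := by
    rw [mul_inv_rev, sO_inv, n0_inv]; group
  refine ⟨?_, ?_⟩
  · rw [e]
    refine conj_uGens_le facts_chevF4 hn (fun r h1 h2 v => ?_) hy.1
    obtain ⟨h3, h4⟩ := long_orbit a r h1 h2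
    exact Subgroup.subset_closure ⟨_, v, h3, h4, rfl⟩
  · exact Subgroup.mul_mem _ (Subgroup.mul_mem _ (sO_mem_fx a)
      (Subgroup.mul_mem _ (Subgroup.mul_mem _ (nW_mem_fx _) hy.2) (nW_mem_fx _))) (sO_mem_fx a)

theorem fm_mem_Pa {a b : Fin 2} {y : GL chevF4.Idx K} (hy : y ∈ fm K m (wA b)) :
    y ∈ Pa K m a :=
  Bf_le_Pa a ⟨Subgroup.mem_sup_left (fm_le_U1 _ hy).1, hy.2⟩

theorem Ym.mem_Pa {a : Fin 2} {g : GL chevF4.Idx K} (h : Ym K m a g) : g ∈ Pa K m a := by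
  have := Subgroup.mul_mem _ (Subgroup.mul_mem _ (sO_mem_Pa (K := K) (m := m) a)
    (fm_mem_Pa (a := a) h)) (sO_mem_Pa a)
  rwa [show sO a * (sO a * g * sO a) * sO a = (sO a * sO a) * g * (sO a * sO a) by group, sO_sq,
    one_mul, mul_one] at this

theorem fm_Rn {a : Fin 2} {x y : GL chevF4.Idx K} (hx : x ∈ fm K m (wA a)) (hy : y ∈ Rn K m a) :
    x * y * x⁻¹ ∈ Rn K m a := Pa_Rn (n0_fm hx).mem_Pa hy

theorem n0_sO (a : Fin 2) : (n0 : GL chevF4.Idx K) * sO a = sO a * n0 := by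
  rw [← nW_single, ← nW_append, ← nW_append]
  refine nW_congr (Equiv.ext fun r => ?_)
  simp only [pW_append, pW_single, Equiv.Perm.mul_apply]
  exact (long_commute a r).symm

theorem sO_Rn {a : Fin 2} {y : GL chevF4.Idx K} (hy : y ∈ Rn K m a) :
    sO a * y * (sO a)⁻¹ ∈ Rn K m a := by
  refine Pa_Rn ?_ hy
  rw [n0_sO, mul_assoc, mul_eq_one_iff_inv_eq.2 n0_inv, mul_one]
  exact sO_mem_Pa a

theorem torus_n0 (hm : IsTheta K m) {h : GL chevF4.Idx K} (hh : h ∈ T1 K m) :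
    n0 * h * n0 ∈ T1 K m := by
  obtain ⟨h', hh', e⟩ := torus_nW hm hh (wd 15)
  rw [mul_assoc, e, ← mul_assoc, mul_eq_one_iff_inv_eq.2 n0_inv, one_mul]
  exact hh'

theorem torus_mem_Pa (hm : IsTheta K m) (a : Fin 2) {h : GL chevF4.Idx K} (hh : h ∈ T1 K m) :
    h ∈ Pa K m a := Bf_le_Pa a (T1_le_borel_fx hm hh)

theorem torus_Rn (hm : IsTheta K m) {a : Fin 2} {h y : GL chevF4.Idx K} (hh : h ∈ T1 K m)
    (hy : y ∈ Rn K m a) : h * y * h⁻¹ ∈ Rn K m a :=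
  Pa_Rn (torus_mem_Pa hm a (torus_n0 hm hh)) hy

theorem torus_Rd (hm : IsTheta K m) {a : Fin 2} {h y : GL chevF4.Idx K} (hh : h ∈ T1 K m)
    (hy : y ∈ Rd K m a) : h * y * h⁻¹ ∈ Rd K m a :=
  Pa_Rd (torus_mem_Pa hm a hh) hy

theorem split_U1 (a : Fin 2) {v : GL chevF4.Idx K} (hv : v ∈ U1 K m) :
    ∃ r ∈ Rd K m a, ∃ y ∈ fm K m (wA a), v = r * y := by
  obtain ⟨x, hx, b, hb, hxf, hbf, rfl⟩ := split_fx (isMon_sO a) (rho_wA a) hv.1 hv.2
  exact ⟨x, ⟨hx, hxf⟩, b, ⟨hb, hbf⟩, rfl⟩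

theorem split_oppU (a : Fin 2) {u : GL chevF4.Idx K} (hu : u ∈ oppU K m) :
    ∃ r ∈ Rn K m a, ∃ y, Ym K m a y ∧ u = r * y := by
  rw [mem_oppU] at hu
  obtain ⟨r, hr, y, hy, e⟩ := split_U1 a hu
  have e0 := mul_eq_one_iff_inv_eq.2 (n0_inv (K := K))
  refine ⟨n0 * r * n0, ?_, n0 * y * n0, n0_fm hy, ?_⟩
  · rw [mem_Rn, show (n0 : GL chevF4.Idx K) * (n0 * r * n0) * n0 = (n0 * n0) * r * (n0 * n0) by group,
      e0, one_mul, mul_one]
    exact hr
  · calc u = (n0 * n0) * u * (n0 * n0) := by rw [e0, one_mul, mul_one]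
      _ = n0 * (n0 * u * n0) * n0 := by group
      _ = n0 * r * (n0 * n0) * y * n0 := by rw [e, e0]; group
      _ = _ := by group

theorem Ym.mem_oppU {a : Fin 2} {g : GL chevF4.Idx K} (h : Ym K m a g) : g ∈ oppU K m := by
  rw [F4Square.mem_oppU]
  have hn := isMon_mul facts_chevF4.{u} (isMon_nW (K := K) (wd 15)) (isMon_sO (K := K) a)
  have e : n0 * g * n0 = (n0 * sO a) * (sO a * g * sO a) * (n0 * sO a : GL chevF4.Idx K)⁻¹ := by
    rw [mul_inv_rev, sO_inv, n0_inv, show n0 * sO a * (sO a * g * sO a) * (sO a * n0) =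
      n0 * (sO a * sO a) * g * (sO a * sO a) * n0 by group, sO_sq, mul_one, mul_one]
  refine ⟨?_, ?_⟩
  · rw [e]
    refine conj_uGens_le facts_chevF4 hn (fun r h1 h2 v => ?_) h.1
    refine mem_posUnipotent_of facts_chevF4 (Fin.is_lt _) ?_ v
    rw [Equiv.Perm.mul_apply]
    obtain ⟨h3, -⟩ := long_orbit a r h1 h2
    rwa [long_commute] at h3
  · rw [e]
    exact Subgroup.mul_mem _ (Subgroup.mul_mem _ (Subgroup.mul_mem _ (nW_mem_fx _) (sO_mem_fx a)) h.2)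
      (Subgroup.inv_mem _ (Subgroup.mul_mem _ (nW_mem_fx _) (sO_mem_fx a)))

end Cfsg.Agent.F4Square
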