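import Cfsg.Agent.F4Square.Cells
import Cfsg.Agent.Chev.ReeF4Mult.RankOne
import Cfsg.Agent.Chev.ReeF4.TwoGen

/-!
A Gauss decomposition with prescribed torus part in `²F₄`.
-/

set_option autoImplicit false
set_option maxRecDepth 100000
set_option maxHeartbeats 1000000

namespace Cfsg.Agent.F4Square

open Cfsg.Lie Cfsg.Agent.Chev Cfsg.Agent.Chev.ReeF4 Cfsg.Agent.Chev.ReeF4Mult
open scoped MatrixGroups

universe u

/-- A node of an orbit. -/
def node (a : Fin 2) : Fin chevF4.rank := ([0, 1] : List (Fin 4)).getD a 0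

theorem node_mem : ∀ a, node a ∈ orb a := by decide +kernel

theorem word_facts : ∀ k : Fin 16, 3 ≤ (k : ℕ) → ∃ a : Fin 2, ∃ k' : Fin 16,
    wd k = a :: wd k' ∧ half chevF4 ≤ (pW (wd k').reverse (sRoot facts_chevF4.{0} (node a)) : ℕ) ∧
      (3 ≤ (k' : ℕ) ∨ ∃ b : Fin 2, wd k' = [b] ∧ a ≠ b) := by decide +kernel

theorem single_facts : ∀ a b : Fin 2, a ≠ b →
    (∃ k : Fin 16, 3 ≤ (k : ℕ) ∧ wd k = [a, b]) ∧ ∃ k : Fin 16, 3 ≤ (k : ℕ) ∧ wd k = [a, b, a] := by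
  decide +kernel

theorem pW_reverse : ∀ ws : List (Fin 2), (pW ws)⁻¹ = pW ws.reverse
  | [] => by rw [List.reverse_nil, pW_nil, inv_one]
  | a :: ws => by
    rw [pW_cons, mul_inv_rev, pW_reverse ws, wA_inv, List.reverse_cons, pW_append, pW_single]

variable {K : Type u} [Field K] [CharP K 2] {m : ℕ}

theorem nW_inv : ∀ ws : List (Fin 2), (nW ws : GL chevF4.Idx K)⁻¹ = nW ws.reverse
  | [] => by rw [List.reverse_nil, nW_nil, inv_one]
  | a :: ws => by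
    rw [nW_cons, mul_inv_rev, nW_inv ws, sO_inv, List.reverse_cons, nW_append, nW_single]

theorem sO_sq_cancel (a : Fin 2) (g : GL chevF4.Idx K) : sO a * (sO a * g) = g := by
  rw [← mul_assoc, sO_sq, one_mul]

/-- The torus parts of the rank one identities. -/
def Adm (m : ℕ) (a : Fin 2) (h : GL chevF4.Idx K) : Prop :=
  h ∈ T1 K m ∧ ∃ x ∈ fm K m (wA a), ∃ Y, Ym K m a Y ∧ ∃ y ∈ fm K m (wA a), x * sO a = Y * h * y

theorem torus_Ym (hm : IsTheta K m) {a : Fin 2} {h Y : GL chevF4.Idx K} (hh : h ∈ T1 K m)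
    (hY : Ym K m a Y) : Ym K m a (h * Y * h⁻¹) := by
  obtain ⟨p, rfl⟩ := hh
  show sO a * _ * sO a ∈ _
  have e : sO a * (tor m p * Y * (tor m p)⁻¹) * sO a =
      tor m (sAct m a p) * (sO a * Y * sO a) * (tor m (sAct m a p) : GL chevF4.Idx K)⁻¹ := by
    rw [← sO_tor hm, mul_inv_rev, mul_inv_rev, sO_inv]
    calc sO a * (tor m p * Y * (tor m p)⁻¹) * sO a
        = sO a * tor m p * (sO a * sO a) * Y * (sO a * sO a) * (tor m p)⁻¹ * sO a := by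
          rw [sO_sq]; group
      _ = _ := by group
  rw [e]
  exact torus_conj_fm hm ⟨_, rfl⟩ hY

theorem yA_sq (t : K) : yA m t * yA m t = (1 : GL chevF4.Idx K) := by
  rw [yA, W2_mul, CharTwo.add_self_eq_zero, CharTwo.add_self_eq_zero, W2_zero]

theorem adm_A (hm : IsTheta K m) (t : Kˣ) : Adm m 0 (tor m (t, 1) : GL chevF4.Idx K) := by
  set s : Kˣ := t⁻¹
  set Z : GL chevF4.Idx K := sO 0 * yA m (s : K)⁻¹ * sO 0 with hZ
  have hT : tor m (s, 1) * sO 0 = yA m (s : K) * Z * yA m (s : K) := by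
    rw [TwoGen.tor_fst_eq, mul_assoc _ (sO 0) (sO 0), sO_sq, mul_one]
  have hh : (tor m (s, 1) : GL chevF4.Idx K) ∈ T1 K m := ⟨_, rfl⟩
  have hi : (tor m (s, 1) : GL chevF4.Idx K)⁻¹ = tor m (t, 1) := by
    rw [← map_inv]; simp [s]
  have hYm : Ym K m 0 Z := by
    show sO 0 * Z * sO 0 ∈ _
    rw [hZ, show sO 0 * (sO 0 * yA m (s : K)⁻¹ * sO 0) * sO 0 =
      (sO 0 * sO 0) * yA m (s : K)⁻¹ * (sO 0 * sO 0 : GL chevF4.Idx K) by group, sO_sq, one_mul,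
      mul_one]
    exact yA_mem_fm hm _
  refine ⟨⟨_, rfl⟩, tor m (t, 1) * yA m (s : K) * (tor m (t, 1))⁻¹,
    torus_conj_fm hm ⟨_, rfl⟩ (yA_mem_fm hm _), tor m (t, 1) * Z * (tor m (t, 1))⁻¹,
    torus_Ym hm ⟨_, rfl⟩ hYm, yA m (s : K), yA_mem_fm hm _, ?_⟩
  rw [← hi, inv_inv]
  calc (tor m (s, 1))⁻¹ * yA m (s : K) * tor m (s, 1) * sO 0
      = (tor m (s, 1))⁻¹ * yA m (s : K) * (tor m (s, 1) * sO 0) := by group
    _ = (tor m (s, 1))⁻¹ * (yA m (s : K) * yA m (s : K)) * Z * yA m (s : K) := by rw [hT]; group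
    _ = _ := by rw [yA_sq]; group

theorem adm_B_sq (hm : IsTheta K m) (c : Kˣ) :
    Adm m 1 (tor m (1, c ^ 2) : GL chevF4.Idx K) := by
  set k : GL chevF4.Idx K := tor m (1, c) with hk
  have hkT : k ∈ T1 K m := ⟨_, rfl⟩
  set Z : GL chevF4.Idx K := sO 1 * yB m 1 1 * sO 1 with hZ
  have hYm : Ym K m 1 Z := by
    show sO 1 * Z * sO 1 ∈ _
    rw [hZ, show sO 1 * (sO 1 * yB m 1 1 * sO 1) * sO 1 =
      (sO 1 * sO 1) * yB m (1 : K) 1 * (sO 1 * sO 1 : GL chevF4.Idx K) by group, sO_sq, one_mul,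
      mul_one]
    exact yB_mem_fm hm _ _
  have hx : yB m (0 : K) 1 * sO 1 = Z * yB m 1 0 := by
    conv_lhs => rw [sO_one_eq (m := m), ← hZ]
    rw [← mul_assoc, ← mul_assoc, ReeF4Mult.yB_mul hm]
    simp [CharTwo.add_self_eq_zero, show yB m (0 : K) 0 = 1 from by simp [yB, W4_zero]]
  have hkk : (tor m (1, c ^ 2) : GL chevF4.Idx K) = k * k := by
    rw [hk, ← map_mul]; simp [pow_two]
  have hs : sO 1 * k⁻¹ = k * sO 1 := by
    have e := sO_tor_right (m := m) (K := K) c⁻¹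
    rw [inv_inv] at e
    rw [hk, ← map_inv]
    simpa using e
  refine ⟨⟨_, rfl⟩, k * yB m 0 1 * k⁻¹, torus_conj_fm hm hkT (yB_mem_fm hm _ _), k * Z * k⁻¹,
    torus_Ym hm hkT hYm, k⁻¹ * yB m 1 0 * k⁻¹⁻¹,
    torus_conj_fm hm (Subgroup.inv_mem _ hkT) (yB_mem_fm hm _ _), ?_⟩
  have hs2 : k⁻¹ * sO 1 = sO 1 * k := by
    rw [inv_mul_eq_iff_eq_mul, ← mul_assoc, ← hs, inv_mul_cancel_right]
  calc k * yB m 0 1 * k⁻¹ * sO 1 = k * (yB m 0 1 * sO 1) * k := by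
        rw [mul_assoc _ k⁻¹ (sO 1), hs2]; group
    _ = _ := by rw [hx, hkk]; group

/-- The torus parts that can be reached from a cell. -/
def Reach (m : ℕ) (ws : List (Fin 2)) (t : GL chevF4.Idx K) : Prop :=
  t ∈ T1 K m ∧ ∀ u ∈ oppU K m, ∃ e ∈ U1 K m, ∃ u' ∈ oppU K m, ∃ p ∈ U1 K m,
    e * u * nW ws = u' * t * p

theorem reach_nil : Reach m [] (1 : GL chevF4.Idx K) :=
  ⟨Subgroup.one_mem _, fun u hu => ⟨1, Subgroup.one_mem _, u, hu, 1, Subgroup.one_mem _, by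
    rw [nW_nil]; group⟩⟩

theorem torus_U1 (hm : IsTheta K m) {h v : GL chevF4.Idx K} (hh : h ∈ T1 K m) (hv : v ∈ U1 K m) :
    h * v * h⁻¹ ∈ U1 K m := by
  rw [U1_eq_fm] at hv ⊢
  exact torus_conj_fm hm hh hv

theorem torus_U1' (hm : IsTheta K m) {h v : GL chevF4.Idx K} (hh : h ∈ T1 K m) (hv : v ∈ U1 K m) :
    h⁻¹ * v * h ∈ U1 K m := by
  have := torus_U1 hm (Subgroup.inv_mem _ hh) hv
  rwa [inv_inv] at this

theorem Reach.cons (hm : IsTheta K m) {a : Fin 2} {ws : List (Fin 2)} {t h h' : GL chevF4.Idx K}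
    (ht : Reach m ws t) (hmin : IsMin facts_chevF4.{0} (nodes a) (pW ws)⁻¹) (ha : Adm m a h)
    (hh' : h' ∈ T1 K m) (eW : h * nW ws = nW ws * h') : Reach m (a :: ws) (t * h') := by
  obtain ⟨-, x, hx, Y, hY, y, hy, eq⟩ := ha
  refine ⟨Subgroup.mul_mem _ ht.1 hh', fun u hu => ?_⟩
  obtain ⟨r, hr, c, hc, rfl⟩ := split_oppU a hu
  set W : GL chevF4.Idx K := nW ws with hW
  obtain ⟨e, he, u', hu', p, hp, ep⟩ := ht.2 (x * r * x⁻¹ * Y)
    (Subgroup.mul_mem _ (Rn_le a (fm_Rn hx hr)) hY.mem_oppU)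
  have hq : W⁻¹ * (y * (sO a * c * sO a)) * W ∈ U1 K m :=
    conj_fm_mem_U1 hm ws hmin (Subgroup.mul_mem _ hy hc)
  refine ⟨e * x, Subgroup.mul_mem _ he (fm_le_U1 _ hx), u', hu',
    (h'⁻¹ * p * h') * (W⁻¹ * (y * (sO a * c * sO a)) * W),
    Subgroup.mul_mem _ (torus_U1' hm hh' hp) hq, ?_⟩
  have e1 : W⁻¹ * h * W = h' := by rw [mul_assoc, eW]; group
  rw [nW_cons, ← hW]
  calc e * x * (r * c) * (sO a * W)
      = e * (x * r * x⁻¹) * (x * (sO a * sO a) * c * sO a) * W := by rw [sO_sq]; group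
    _ = e * (x * r * x⁻¹) * ((x * sO a) * (sO a * c * sO a)) * W := by group
    _ = (e * (x * r * x⁻¹ * Y) * W) * (W⁻¹ * h * W) * (W⁻¹ * (y * (sO a * c * sO a)) * W) := by
        rw [eq]; group
    _ = _ := by rw [ep, e1]; group

variable [Fintype K] (hK : Fintype.card K = 2 ^ (2 * m + 1))
include hK

theorem adm_B (c : Kˣ) : Adm m 1 (tor m (1, c) : GL chevF4.Idx K) := by
  obtain ⟨d, rfl⟩ := exists_sq hK c
  exact adm_B_sq (isTheta hK) d

/-- The coroot torus of an orbit. -/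
def cor (a : Fin 2) (s : Kˣ) : Kˣ × Kˣ := if a = 0 then (s, 1) else (1, s)

theorem adm_cor (a : Fin 2) (s : Kˣ) : Adm m a (tor m (cor a s) : GL chevF4.Idx K) := by
  obtain rfl | rfl : a = 0 ∨ a = 1 := by omega
  · exact adm_A (isTheta hK) s
  · exact adm_B hK s

omit [Fintype K] hK in
theorem min_of_pos {a : Fin 2} {ws : List (Fin 2)}
    (h : half chevF4 ≤ (pW ws.reverse (sRoot facts_chevF4.{0} (node a)) : ℕ)) :
    IsMin facts_chevF4.{0} (nodes a) (pW ws)⁻¹ := by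
  refine isMin_iff (inW1_pW ws).inv (node_mem a) ?_
  rw [pW_reverse]
  exact h

theorem reach_two {a b : Fin 2} (hab : a ≠ b)
    (hmin : IsMin facts_chevF4.{0} (nodes a) (pW [b])⁻¹) {t : GL chevF4.Idx K}
    (ht : t ∈ T1 K m) : Reach m [a, b] t := by
  have hm := isTheta hK
  obtain ⟨⟨p, q⟩, rfl⟩ := ht
  have hminb : IsMin facts_chevF4.{0} (nodes b) (pW [])⁻¹ := by
    refine isMin_iff (inW1_pW []).inv (node_mem b) ?_
    rw [pW_nil, inv_one, Equiv.Perm.one_apply]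
    exact facts_chevF4.{0}.simple_pos _ (node b).2
  obtain ⟨u, w, e⟩ : ∃ u w : Kˣ, (p, q) = cor b u * sAct m b (cor a w) := by
    obtain rfl | rfl : b = 0 ∨ b = 1 := by omega
    · obtain rfl : a = 1 := by omega
      exact ⟨p * q⁻¹, q, by simp [cor, sAct]⟩
    · obtain rfl : a = 0 := by omega
      exact ⟨q * (p ^ 2 * uT m p ^ 2)⁻¹, p, by simp [cor, sAct, mul_comm, mul_left_comm, mul_assoc]⟩
  have h1 : Reach m [b] (tor m (cor b u) : GL chevF4.Idx K) := by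
    have := (reach_nil (K := K)).cons hm hminb (adm_cor hK b u) (h' := tor m (cor b u))
      ⟨_, rfl⟩ (by rw [nW_nil, mul_one, one_mul])
    rwa [one_mul] at this
  have h2 := h1.cons hm hmin (adm_cor hK a w) (h' := tor m (sAct m b (cor a w))) ⟨_, rfl⟩ (by
    rw [nW_single, ← sO_tor hm b (cor a w), mul_assoc (sO b), sO_sq_cancel])
  rwa [← map_mul, ← e] at h2

theorem reach_wd : ∀ (n : ℕ) (k : Fin 16), (wd k).length = n → 3 ≤ (k : ℕ) →
    ∀ t ∈ T1 K m, Reach m (wd k) (t : GL chevF4.Idx K) := by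
  have hm := isTheta hK
  intro n
  induction n with
  | zero =>
    intro k hn hk
    obtain ⟨a, k', e, -, -⟩ := word_facts k hk
    rw [e] at hn; simp at hn
  | succ n ih =>
    intro k hn hk t ht
    obtain ⟨a, k', e, hpos, h⟩ := word_facts k hk
    have hmin := min_of_pos (ws := wd k') hpos
    rw [e]
    rcases h with h | ⟨b, hb, hab⟩
    · obtain ⟨h', hh', eW⟩ := torus_nW hm (h := (tor m (cor a 1) : GL chevF4.Idx K)) ⟨_, rfl⟩ (wd k')
      have := (ih k' (by rw [e] at hn; simpa using hn) h (t * h'⁻¹)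
        (Subgroup.mul_mem _ ht (Subgroup.inv_mem _ hh'))).cons hm hmin (adm_cor hK a 1) hh' eW
      rwa [inv_mul_cancel_right] at this
    · rw [hb] at hmin ⊢
      exact reach_two hK hab hmin ht

omit hK [Fintype K] in
/-- Conjugacy under the group. -/
def Cj (m : ℕ) (g h : GL chevF4.Idx K) : Prop := ∃ e ∈ twistedF4 K (2 ^ m), e * g * e⁻¹ = h

omit hK [Fintype K] in
theorem Cj.trans {g h k : GL chevF4.Idx K} (h1 : Cj m g h) (h2 : Cj m h k) : Cj m g k := by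
  obtain ⟨e, he, rfl⟩ := h1
  obtain ⟨e', he', rfl⟩ := h2
  exact ⟨e' * e, Subgroup.mul_mem _ he' he, by group⟩

omit hK [Fintype K] in
/-- The cell of a word. -/
def Cell (m : ℕ) (ws : List (Fin 2)) (g : GL chevF4.Idx K) : Prop :=
  ∃ h ∈ T1 K m, ∃ v ∈ U1 K m, Cj m g (nW ws * h * v)

theorem Bf_le_G : Bf K m ≤ twistedF4 K (2 ^ m) := fun g hg => by
  rw [← fx_eq hK]; exact hg.2

theorem cell_of_bruhat {b b' : GL chevF4.Idx K} (hb : b ∈ Bf K m) (hb' : b' ∈ Bf K m)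
    (ws : List (Fin 2)) : Cell m ws (b * nW ws * b') := by
  have hm := isTheta hK
  obtain ⟨v, hv, t, ht, e⟩ := (mem_borel_fx hm).1 (Subgroup.mul_mem _ hb' hb)
  refine ⟨t, ht, t⁻¹ * v * t, torus_U1' hm ht hv, b⁻¹, Subgroup.inv_mem _ (Bf_le_G hK hb), ?_⟩
  calc b⁻¹ * (b * nW ws * b') * b⁻¹⁻¹ = nW ws * (b' * b) := by group
    _ = _ := by rw [e]; group

theorem long_cell {g : GL chevF4.Idx K} (hg : g ∈ twistedF4 K (2 ^ m)) (hne : g ≠ 1) :
    ∃ k : Fin 16, 3 ≤ (k : ℕ) ∧ Cell m (wd k) g := by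
  have hm := isTheta hK
  obtain ⟨g', hg', hcj, hnb⟩ : ∃ g' ∈ twistedF4 K (2 ^ m), Cj m g g' ∧ g' ∉ Bf K m := by
    by_contra hno
    push Not at hno
    set C := ((chevF4.borelSubgroup K ⊓ twistedF4 K (2 ^ m)).subgroupOf (twistedF4 K (2 ^ m)))
    have hmem : (⟨g, hg⟩ : ↥(twistedF4 K (2 ^ m))) ∈ C.normalCore := by
      intro a
      refine Subgroup.mem_subgroupOf.2 ?_
      rw [G1_inf_borel hK]
      exact hno _ (Subgroup.mul_mem _ (Subgroup.mul_mem _ a.2 hg) (a⁻¹).2) ⟨a, a.2, rfl⟩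
    rw [core_trivial hK, Subgroup.mem_bot] at hmem
    exact hne (congrArg Subtype.val hmem)
  obtain ⟨u, hu, h, hh, k, x, hx, e⟩ := exists_nf (G1_le_fx hm hg')
  have hub : u * h ∈ Bf K m := (mem_borel_fx hm).2 ⟨u, hu, h, hh, rfl⟩
  have hxb : x ∈ Bf K m := U1_le_borel_fx hm (fm_le_U1 _ hx)
  obtain ⟨hh1, v1, hv1, hc1⟩ : ∃ hh1, ∃ v1, v1 ∈ U1 K m ∧ hh1 ∈ T1 K m ∧
      Cj m g' (nW (wd k) * hh1 * v1) := by
    obtain ⟨a, ha, b, hb, hc⟩ := cell_of_bruhat hK hub hxb (wd k)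
    rw [← e] at hc
    exact ⟨a, b, hb, ha, hc⟩
  by_cases hk : 3 ≤ (k : ℕ)
  · exact ⟨k, hk, hh1, hc1.1, v1, hv1, hcj.trans hc1.2⟩
  have hk0 : (k : ℕ) ≠ 0 := by
    intro h0
    apply hnb
    rw [e, show k = 0 from Fin.ext h0, wd_small.1, nW_nil, mul_one]
    exact Subgroup.mul_mem _ hub hxb
  obtain ⟨a, ha⟩ : ∃ a : Fin 2, wd k = [a] :=
    ⟨⟨(k : ℕ) - 1, by omega⟩, wd_small.2 _ k (by show (k : ℕ) = (k : ℕ) - 1 + 1; omega)⟩
  rw [ha] at hc1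
  obtain ⟨hh1T, hc1⟩ := hc1
  have hab : a + 1 ≠ a := (by decide : ∀ a : Fin 2, a + 1 ≠ a) a
  set b := a + 1
  have hc : hh1 * v1 ∈ Bf K m := Subgroup.mul_mem _ (T1_le_borel_fx hm hh1T) (U1_le_borel_fx hm hv1)
  obtain ⟨b₁, hb₁, b₂, hb₂, hstep⟩ := step hm b [a, b] (Subgroup.inv_mem _ hc)
  have hcj2 : Cj m g (sO b * (nW [a] * (hh1 * v1)) * sO b) := by
    refine hcj.trans (hc1.trans ⟨sO b, sO_mem_G1 b, ?_⟩)
    rw [sO_inv, mul_assoc (nW [a]) hh1 v1]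
  have hinv : sO b * (nW [a] * (hh1 * v1)) * sO b = (sO b * (hh1 * v1)⁻¹ * nW [a, b])⁻¹ := by
    rw [mul_inv_rev, mul_inv_rev, inv_inv, nW_inv, sO_inv,
      show ([a, b] : List (Fin 2)).reverse = [b, a] from rfl, nW_cons b [a]]
    group
  rcases hstep with hs | hs
  · obtain ⟨-, k2, hk2, e2⟩ := single_facts b a hab
    refine ⟨k2, hk2, ?_⟩
    obtain ⟨q, hq, w, hw, hcw⟩ := cell_of_bruhat hK (Subgroup.inv_mem _ hb₂)
      (Subgroup.inv_mem _ hb₁) (wd k2)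
    refine ⟨q, hq, w, hw, hcj2.trans ?_⟩
    rwa [hinv, hs, mul_inv_rev, mul_inv_rev, nW_inv, show (b :: [a, b]).reverse = [b, a, b] from rfl,
      ← e2, ← mul_assoc]
  · obtain ⟨⟨k2, hk2, e2⟩, -⟩ := single_facts b a hab
    refine ⟨k2, hk2, ?_⟩
    obtain ⟨q, hq, w, hw, hcw⟩ := cell_of_bruhat hK (Subgroup.inv_mem _ hb₂)
      (Subgroup.inv_mem _ hb₁) (wd k2)
    refine ⟨q, hq, w, hw, hcj2.trans ?_⟩
    rwa [hinv, hs, mul_inv_rev, mul_inv_rev, nW_inv, show ([a, b] : List (Fin 2)).reverse = [b, a] from rfl,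
      ← e2, ← mul_assoc]

/-- Every element other than `1` is conjugate to `u * t * v` with any given torus part. -/
theorem gauss {g : GL chevF4.Idx K} (hg : g ∈ twistedF4 K (2 ^ m)) (hne : g ≠ 1)
    {t : GL chevF4.Idx K} (ht : t ∈ T1 K m) :
    ∃ u ∈ oppU K m, ∃ v ∈ U1 K m, Cj m g (u * t * v) := by
  have hm := isTheta hK
  obtain ⟨k, hk, h, hh, v, hv, hcj⟩ := long_cell hK hg hne
  obtain ⟨e, he, u, hu, p, hp, ep⟩ :=
    (reach_wd hK _ k rfl hk _ (Subgroup.mul_mem _ ht (Subgroup.inv_mem _ hh))).2 1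
      (Subgroup.one_mem _)
  rw [mul_one] at ep
  refine ⟨u, hu, h⁻¹ * p * h * (v * e⁻¹), Subgroup.mul_mem _ (torus_U1' hm hh hp)
    (Subgroup.mul_mem _ hv (Subgroup.inv_mem _ he)), hcj.trans ⟨e, U1_le_G1 he, ?_⟩⟩
  calc e * (nW (wd k) * h * v) * e⁻¹ = e * nW (wd k) * h * (v * e⁻¹) := by group
    _ = _ := by rw [ep]; group

end Cfsg.Agent.F4Square
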