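import Cfsg.Agent.F4Square.LeviHom

/-!
A class of elements of odd order of `²F₄(q)`, `q ≥ 8`, whose square covers the nonidentity elements.
-/

set_option autoImplicit false
set_option maxRecDepth 100000
set_option maxHeartbeats 1000000

namespace Cfsg.Agent.F4Square

open Cfsg.Lie Cfsg.Agent.Chev Cfsg.Agent.Chev.ReeF4 Cfsg.Agent.Chev.ReeF4Mult
open scoped MatrixGroups

universe u

/-- Normalising and with trivial centraliser in a finite subgroup: the coset is one class. -/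
theorem twist_right {G : Type*} [Group G] {S : Subgroup G} [Finite S] {x : G}
    (hnorm : ∀ w ∈ S, x⁻¹ * w * x ∈ S) (htriv : ∀ w ∈ S, x * w = w * x → w = 1)
    {v : G} (hv : v ∈ S) : ∃ w ∈ S, x * v = w * x * w⁻¹ := by
  let f : S → S := fun w => ⟨x⁻¹ * (w : G) * x * (w : G)⁻¹,
    Subgroup.mul_mem _ (hnorm _ w.2) (Subgroup.inv_mem _ w.2)⟩
  have hinj : Function.Injective f := by
    intro a b e
    have e' : x⁻¹ * (a : G) * x * (a : G)⁻¹ = x⁻¹ * (b : G) * x * (b : G)⁻¹ :=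
      congrArg Subtype.val e
    have hc : x * ((b : G)⁻¹ * a) = (b : G)⁻¹ * a * x := by
      calc x * ((b : G)⁻¹ * a) = (b : G)⁻¹ * (x * (x⁻¹ * (b : G) * x * (b : G)⁻¹)) * a := by group
        _ = (b : G)⁻¹ * (x * (x⁻¹ * (a : G) * x * (a : G)⁻¹)) * a := by rw [e']
        _ = _ := by group
    have := htriv _ (Subgroup.mul_mem _ (Subgroup.inv_mem _ b.2) a.2) hc
    exact Subtype.ext (inv_mul_eq_one.1 this).symm
  obtain ⟨w, hw⟩ := Finite.surjective_of_injective hinj ⟨v, hv⟩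
  exact ⟨w, w.2, by rw [← show x⁻¹ * (w : G) * x * (w : G)⁻¹ = v from congrArg Subtype.val hw]; group⟩

theorem twist_left {G : Type*} [Group G] {S : Subgroup G} [Finite S] {x : G}
    (hnorm : ∀ w ∈ S, x⁻¹ * w * x ∈ S) (htriv : ∀ w ∈ S, x * w = w * x → w = 1)
    {u : G} (hu : u ∈ S) : ∃ w ∈ S, u * x = w * x * w⁻¹ := by
  obtain ⟨w, hw, e⟩ := twist_right hnorm htriv (hnorm u hu)
  exact ⟨w, hw, by rw [← e]; group⟩

variable {K : Type u} [Field K] [CharP K 2] [Fintype K] {m : ℕ}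
  (hK : Fintype.card K = 2 ^ (2 * m + 1))
include hK

theorem T1_le_G : T1 K m ≤ twistedF4 K (2 ^ m) := T1_le_G1 hK

theorem LL_le_G : LL K m ≤ twistedF4 K (2 ^ m) := fun _ hg => Pa_le_G hK 1 (LL_le_Pa hK hg)

theorem LL_n0 {g : GL chevF4.Idx K} (hg : g ∈ LL K m) : n0 * g * n0 ∈ Pa K m 1 := by
  have hm := isTheta hK
  have e := mul_eq_one_iff_inv_eq.2 (n0_inv (K := K))
  induction hg using Subgroup.closure_induction with
  | mem x hx =>
    rcases hx with ⟨t, u, rfl⟩ | ⟨b, rfl⟩ | rfl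
    · exact (n0_fm (yB_mem_fm hm t u)).mem_Pa
    · exact torus_mem_Pa hm 1 (torus_n0 hm ⟨_, rfl⟩)
    · rw [n0_sO, mul_assoc, e, mul_one]
      exact sO_mem_Pa 1
  | one => rw [mul_one, e]; exact Subgroup.one_mem _
  | mul x y _ _ hx hy =>
    have := Subgroup.mul_mem _ hx hy
    rwa [show n0 * x * n0 * (n0 * y * n0) = n0 * x * (n0 * n0) * y * n0 by group, e, mul_one,
      mul_assoc n0 x y] at this
  | inv x _ hx =>
    have := Subgroup.inv_mem _ hx
    rwa [mul_inv_rev, mul_inv_rev, n0_inv, ← mul_assoc] at this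

theorem zz_pow (c : Kˣ) : ∀ k : ℕ, zz m c ^ k = zz m (c ^ k) := fun k => by
  show tor m (TwoGen.fstPar m c, c) ^ k = tor m (TwoGen.fstPar m (c ^ k), c ^ k)
  rw [← map_pow]
  refine congrArg _ (Prod.ext ?_ rfl)
  simp only [Prod.pow_fst, TwoGen.fstPar, map_pow, mul_pow, inv_pow, ← pow_mul, mul_comm 2]

theorem fixed_Rd {c : Kˣ} (hc : c ≠ 1) {w : GL chevF4.Idx K} (hw : w ∈ Rd K m 1)
    (h : zz m c * w = w * zz m c) : w = 1 :=
  uPlus_inf_uMinus facts_chevF4 (isMon_sO 1) hw.1 (fixed_fm hK hc (Rd_le 1 hw) h).1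

theorem fixed_Rn {c : Kˣ} (hc : c ≠ 1) {w : GL chevF4.Idx K} (hw : w ∈ Rn K m 1)
    (h : zz m c * w = w * zz m c) : w = 1 := by
  have hm := isTheta hK
  rw [mem_Rn] at hw
  have e0 := mul_eq_one_iff_inv_eq.2 (n0_inv (K := K))
  obtain ⟨p, hp⟩ := torus_n0 hm (zz_mem c : zz m c ∈ T1 K m)
  -- the conjugate is again central in the Levi subgroup
  have hcom : ∀ t u, Commute (tor m p) (yB m t u : GL chevF4.Idx K) := fun t u => by
    have h1 := (zz_central hK c (Ym_mem_LL (n0_fm (yB_mem_fm hm t u)))).eq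
    rw [hp]
    show n0 * zz m c * n0 * yB m t u = yB m t u * (n0 * zz m c * n0)
    calc n0 * zz m c * n0 * yB m t u
        = n0 * zz m c * (n0 * yB m t u * n0) * n0 := by
          simp only [mul_assoc]; rw [e0, mul_one]
      _ = n0 * (n0 * yB m t u * n0) * zz m c * n0 := by rw [mul_assoc n0, h1, ← mul_assoc]
      _ = _ := by
          rw [show n0 * (n0 * yB m t u * n0) * zz m c * n0 =
            (n0 * n0) * yB m t u * (n0 * zz m c * n0) by group, e0, one_mul]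
  have hchi : ReeF4Mult.chi m 1 p = 1 := by
    have h1 := tor_conj_yB hK p (1 : K) 0
    rw [(hcom 1 0).eq, mul_inv_cancel_right, mul_one, mul_zero] at h1
    obtain ⟨-, h2, -, -⟩ := W4_injective h1
    exact Units.ext h2.symm
  have hp1 : p = (TwoGen.fstPar m p.2, p.2) := by
    refine Prod.ext ?_ rfl
    have e1 : ev m (-1, 0) p.1 * ev m (2, -2) p.2 = 1 := hchi
    simp only [ev, zpow_zero, mul_one, zpow_neg, zpow_one] at e1
    rw [inv_mul_eq_one] at e1
    simp only [e1, TwoGen.fstPar, uT, zpow_ofNat]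
  have hne : p.2 ≠ 1 := by
    intro h2
    apply hc
    have h3 : tor m p = (1 : GL chevF4.Idx K) := by
      rw [hp1, h2, show TwoGen.fstPar m (1 : Kˣ) = 1 by simp [TwoGen.fstPar],
        show (((1, 1) : Kˣ × Kˣ)) = 1 from rfl, map_one]
    rw [hp] at h3
    have h4 : zz m c = 1 := by
      calc zz m c = n0 * (n0 * zz m c * n0) * n0 := by
            rw [show (n0 : GL chevF4.Idx K) * (n0 * zz m c * n0) * n0 = (n0 * n0) * zz m c * (n0 * n0) by
              group, e0, one_mul, mul_one]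
        _ = 1 := by rw [h3, mul_one, e0]
    exact (Prod.ext_iff.1 (tor_injective (m := m) (a₁ := (TwoGen.fstPar m c, c)) (a₂ := 1)
      (h4.trans (map_one _).symm))).2
  have hfix : n0 * w * n0 = 1 := by
    refine fixed_Rd hK hne hw ?_
    show tor m (TwoGen.fstPar m p.2, p.2) * _ = _ * tor m (TwoGen.fstPar m p.2, p.2)
    rw [← hp1, hp]
    show n0 * zz m c * n0 * (n0 * w * n0) = n0 * w * n0 * (n0 * zz m c * n0)
    calc n0 * zz m c * n0 * (n0 * w * n0) = n0 * (zz m c * (n0 * n0) * w) * n0 := by group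
      _ = n0 * (w * (n0 * n0) * zz m c) * n0 := by rw [e0, mul_one, mul_one, h]
      _ = _ := by group
  calc w = n0 * (n0 * w * n0) * n0 := by
        rw [show (n0 : GL chevF4.Idx K) * (n0 * w * n0) * n0 = (n0 * n0) * w * (n0 * n0) by group,
          e0, one_mul, mul_one]
    _ = 1 := by rw [hfix, mul_one, e0]

/-- The class of the chosen element squared covers the nonidentity elements. -/
theorem cover_large (hm1 : 1 ≤ m) : ∃ x ∈ twistedF4 K (2 ^ m), (∃ n : ℕ, x ^ n = 1 ∧ Odd n) ∧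
    ∀ g ∈ twistedF4 K (2 ^ m), g ≠ 1 → ∃ a ∈ twistedF4 K (2 ^ m), ∃ b ∈ twistedF4 K (2 ^ m),
      g = (a * x * a⁻¹) * (b * x * b⁻¹) := by
  classical
  have hm := isTheta hK
  obtain ⟨s, hs, k, hsk, hodd, hcop, hcov⟩ := exists_cover hK hm1
  obtain ⟨c, hc, -⟩ := exists_unit_ne_one hK hm1
  have hcq : c ^ (Fintype.card K - 1) = 1 := by rw [← Fintype.card_units]; exact pow_card_eq_one
  have hck : c ^ k ≠ 1 := fun h => by
    have := pow_gcd_eq_one.2 ⟨h, hcq⟩
    rw [hcop, pow_one] at this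
    exact hc this
  set z : GL chevF4.Idx K := zz m c with hz
  have hzG : z ∈ twistedF4 K (2 ^ m) := T1_le_G hK (zz_mem c)
  have hcomm : Commute z s := zz_central hK c hs
  refine ⟨z * s, Subgroup.mul_mem _ hzG (LL_le_G hK hs), ⟨k * (Fintype.card K - 1), ?_, ?_⟩, ?_⟩
  · rw [hcomm.mul_pow, pow_mul s, hsk, one_pow, mul_one, mul_comm k, pow_mul, hz, zz_pow hK c,
      hcq, show zz m (1 : Kˣ) = (1 : GL chevF4.Idx K) from ?_, one_pow]
    rw [show zz m (1 : Kˣ) = zz m c ^ 0 by rw [zz_pow hK c, pow_zero], pow_zero]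
  · refine hodd.mul ?_
    rw [hK]
    exact Nat.Even.sub_odd (Nat.one_le_pow _ _ (by norm_num))
      ((Nat.even_pow' (by omega)).2 even_two) odd_one
  intro g hg hne
  obtain ⟨c', hc', -⟩ := exists_unit_ne_one hK hm1
  set h : GL chevF4.Idx K := tor m (1, c') with hh
  have hzz : z * z ∈ T1 K m := Subgroup.mul_mem _ (zz_mem c) (zz_mem c)
  obtain ⟨u, hu, v, hv, e, he, heq⟩ := gauss hK hg hne
    (Subgroup.mul_mem _ hzz (⟨_, rfl⟩ : h ∈ T1 K m))
  obtain ⟨r, hr, d, hd, rfl⟩ := split_oppU 1 hu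
  obtain ⟨r', hr', y, hy, rfl⟩ := split_U1 1 hv
  set M : GL chevF4.Idx K := d * h * y with hM
  have hML : M ∈ LL K m :=
    Subgroup.mul_mem _ (Subgroup.mul_mem _ (Ym_mem_LL hd) (tor_mem_LL c')) (fm_mem_LL hy)
  have hM1 : M ≠ 1 := by
    intro h1
    have hd1 : d = 1 := by
      by_contra hd1
      have hy1 : sO 1 * d * sO 1 ≠ 1 := fun h2 => hd1 (by
        calc d = (sO 1 * sO 1) * d * (sO 1 * sO 1 : GL chevF4.Idx K) := by
              rw [sO_sq, one_mul, mul_one]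
          _ = sO 1 * (sO 1 * d * sO 1) * sO 1 := by group
          _ = 1 := by rw [h2, mul_one, sO_sq])
      refine conj_sO_not_mem hd hy1 ?_
      rw [show sO 1 * (sO 1 * d * sO 1) * sO 1 = (sO 1 * sO 1) * d * (sO 1 * sO 1 : GL chevF4.Idx K) by
        group, sO_sq, one_mul, mul_one, show d = M * (h * y)⁻¹ by rw [hM]; group, h1, one_mul]
      exact Subgroup.inv_mem _ (Subgroup.mul_mem _
        (T1_le_borel_fx hm (⟨_, rfl⟩ : h ∈ T1 K m)).1 (U1_le_borel_fx hm (fm_le_U1 _ hy)).1)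
    have hbot : h ∈ chevF4.posUnipotent K := by
      rw [show h = y⁻¹ by rw [eq_inv_iff_mul_eq_one, ← h1, hM, hd1, one_mul]]
      exact Subgroup.inv_mem _ (fm_le_U1 _ hy).1
    have := (posUnipotent_torus_unique facts_chevF4 hbot (Subgroup.one_mem _)
      (show h * torusHom 1 = 1 * torusHom (tv (Units.map (th K m).toMonoidHom (1 : Kˣ))
        (Units.map (th K m).toMonoidHom c') c' 1) by rw [map_one, mul_one, one_mul]; rfl)).1
    exact hc' ((Prod.ext_iff.1 (tor_injective (m := m) (a₁ := (1, c')) (a₂ := 1)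
      ((show h = 1 from this).trans (map_one _).symm))).2)
  obtain ⟨a, ha, b, hb, hab⟩ := hcov M hML hM1
  have hx : ∀ a ∈ LL K m, ∀ S : Subgroup (GL chevF4.Idx K),
      (∀ l ∈ LL K m, ∀ w ∈ S, l * w * l⁻¹ ∈ S) → (∀ w ∈ S, z⁻¹ * w * z ∈ S) →
      (∀ w ∈ S, zz m (c ^ k) * w = w * zz m (c ^ k) → w = 1) →
      (∀ w ∈ S, (a * (z * s) * a⁻¹)⁻¹ * w * (a * (z * s) * a⁻¹) ∈ S) ∧
      (∀ w ∈ S, (a * (z * s) * a⁻¹) * w = w * (a * (z * s) * a⁻¹) → w = 1) := by
    intro a ha S hLS hzS hfix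
    have e1 : a * (z * s) * a⁻¹ = z * (a * s * a⁻¹) := by
      rw [← mul_assoc, ← (show Commute z a from zz_central hK c ha).eq]; group
    have hl : a * s * a⁻¹ ∈ LL K m :=
      Subgroup.mul_mem _ (Subgroup.mul_mem _ ha hs) (Subgroup.inv_mem _ ha)
    constructor
    · intro w hw
      rw [e1]
      have := hLS _ (Subgroup.inv_mem _ hl) _ (hzS w hw)
      convert this using 1
      group
    · intro w hw hcw
      refine hfix w hw ?_
      have hp : (a * (z * s) * a⁻¹) ^ k = zz m (c ^ k) := by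
        rw [e1, (zz_central hK c hl).mul_pow, conj_pow, hsk, mul_one, mul_inv_cancel, mul_one,
          zz_pow hK c]
      rw [← hp]
      exact (Commute.pow_left hcw k).eq
  obtain ⟨n1, f1⟩ := hx a ha (Rn K m 1) (fun l hl w hw => Pa_Rn (LL_n0 hK hl) hw)
    (fun w hw => by
      have := torus_Rn hm (Subgroup.inv_mem _ (zz_mem c : z ∈ T1 K m)) hw
      rwa [inv_inv] at this)
    (fun w hw => fixed_Rn hK hck hw)
  obtain ⟨n2, f2⟩ := hx b hb (Rd K m 1) (fun l hl w hw => Pa_Rd (LL_le_Pa hK hl) hw)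
    (fun w hw => by
      have := torus_Rd hm (Subgroup.inv_mem _ (zz_mem c : z ∈ T1 K m)) hw
      rwa [inv_inv] at this)
    (fun w hw => fixed_Rd hK hck hw)
  obtain ⟨w1, hw1, e1⟩ := twist_left n1 f1 hr
  have hr2 : y⁻¹ * r' * y ∈ Rd K m 1 := by
    have := Pa_Rd (Subgroup.inv_mem _ (fm_mem_Pa (a := 1) hy)) hr'
    rwa [inv_inv] at this
  obtain ⟨w2, hw2, e2⟩ := twist_right n2 f2 hr2
  have hw1G : w1 ∈ twistedF4 K (2 ^ m) := by
    rw [← fx_eq hK]
    obtain ⟨w, hw, rfl⟩ := hw1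
    exact Subgroup.mul_mem _ (Subgroup.mul_mem _ (nW_mem_fx _) hw.2)
      (Subgroup.inv_mem _ (nW_mem_fx _))
  have hw2G : w2 ∈ twistedF4 K (2 ^ m) := U1_le_G1 (Rd_le 1 hw2)
  refine ⟨e⁻¹ * (w1 * a), Subgroup.mul_mem _ (Subgroup.inv_mem _ he) (Subgroup.mul_mem _ hw1G (LL_le_G hK ha)),
    e⁻¹ * (w2 * b), Subgroup.mul_mem _ (Subgroup.inv_mem _ he) (Subgroup.mul_mem _ hw2G (LL_le_G hK hb)), ?_⟩
  have key : r * d * (z * z * h) * (r' * y) =
      r * (a * (z * s) * a⁻¹) * ((b * (z * s) * b⁻¹) * (y⁻¹ * r' * y)) := by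
    have hA : a * (z * s) * a⁻¹ = z * (a * s * a⁻¹) := by
      rw [← mul_assoc, ← (show Commute z a from zz_central hK c ha).eq]; group
    have hB : b * (z * s) * b⁻¹ = z * (b * s * b⁻¹) := by
      rw [← mul_assoc, ← (show Commute z b from zz_central hK c hb).eq]; group
    have hzd : Commute z d := zz_central hK c (Ym_mem_LL hd)
    have hl : a * s * a⁻¹ ∈ LL K m :=
      Subgroup.mul_mem _ (Subgroup.mul_mem _ ha hs) (Subgroup.inv_mem _ ha)
    have hzl : Commute z (a * s * a⁻¹) := zz_central hK c hl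
    rw [hA, hB]
    calc r * d * (z * z * h) * (r' * y) = r * (d * z * z) * (h * y) * (y⁻¹ * r' * y) := by group
      _ = r * (z * z) * (d * h * y) * (y⁻¹ * r' * y) := by
          rw [show d * z * z = z * z * d by rw [← hzd.eq, mul_assoc, ← hzd.eq, mul_assoc]]
          group
      _ = r * (z * z) * ((a * s * a⁻¹) * (b * s * b⁻¹)) * (y⁻¹ * r' * y) := by
          rw [← hM, hab]
      _ = r * (z * (z * (a * s * a⁻¹))) * (b * s * b⁻¹) * (y⁻¹ * r' * y) := by group
      _ = r * (z * ((a * s * a⁻¹) * z)) * (b * s * b⁻¹) * (y⁻¹ * r' * y) := by rw [hzl.eq]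
      _ = _ := by group
  calc g = e⁻¹ * (e * g * e⁻¹) * e := by group
    _ = e⁻¹ * ((r * (a * (z * s) * a⁻¹)) * ((b * (z * s) * b⁻¹) * (y⁻¹ * r' * y))) * e := by
        rw [heq, key, ← mul_assoc]
    _ = _ := by rw [e1, e2]; group

end Cfsg.Agent.F4Square
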