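import Cfsg.Agent.Chev.ReeF4.Main
import Cfsg.Agent.Suzuki.Basic

/-!
The Levi subgroup of type `²B₂` of `²F₄` acting on four root vectors.
-/

set_option autoImplicit false
set_option maxRecDepth 100000
set_option maxHeartbeats 1000000

namespace Cfsg.Agent.F4Square

open Cfsg.Lie Cfsg.Agent.Chev Cfsg.Agent.Chev.ReeF4
open scoped MatrixGroups Matrix

universe u

/-- Four roots spanning a module of the Levi subgroup. -/
def quad (i : Fin 4) : ℕ := [37, 35, 34, 33].getD (i : ℕ) 0

theorem quad_lt (i : Fin 4) : quad i < chevF4.nroots :=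
  (by decide +kernel : ∀ i : Fin 4, quad i < chevF4.nroots) i

/-- The four coordinates. -/
def emb (i : Fin 4) : chevF4.Idx := .inr ⟨quad i, quad_lt i⟩

theorem emb_injective : Function.Injective emb := by decide +kernel

/-- The off-diagonal entries of a root element of the Levi subgroup on the four coordinates. -/
def tbl : List (ℕ × Fin 4 × Fin 4) :=
  [(27, 0, 1), (27, 2, 3), (25, 1, 2), (28, 0, 2), (28, 1, 3), (30, 0, 3),
   (20, 1, 0), (20, 3, 2), (22, 2, 1), (19, 2, 0), (19, 3, 1), (17, 3, 0)]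

/-- The roots of the Levi subgroup. -/
def lroots : List ℕ := [27, 25, 28, 30, 20, 22, 19, 17]

theorem chain_facts : ∀ r : Fin chevF4.nroots, (r : ℕ) ∈ lroots → ∀ j : Fin 4,
    quad j ≠ (r : ℕ) ∧ quad j ≠ chevF4.negIdx.getD r 0 ∧ ∀ u : Fin chevF4.nroots,
      chevF4.chainCoeff r (quad j) u = [] ∨
      ∃ i : Fin 4, (u : ℕ) = quad i ∧ i ≠ j ∧ ((r : ℕ), i, j) ∈ tbl ∧
        ((chevF4.chainCoeff r (quad j) u).map Prod.fst = [1]) ∧
        ((chevF4.chainCoeff r (quad j) u).map fun p => p.2.natAbs) = [1] := by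
  decide +kernel

theorem chain_full : ∀ p ∈ tbl, chevF4.chainCoeff p.1 (quad p.2.2) (quad p.2.1) ≠ [] := by
  decide +kernel

variable {K : Type u} [Field K] [CharP K 2]

theorem int_cast_of_natAbs {c : ℤ} (h : c.natAbs = 1) : (c : K) = 1 := by
  rcases Int.natAbs_eq c with e | e <;> rw [e, h] <;> simp [CharTwo.neg_eq]

theorem x_col {r : ℕ} (hr : r ∈ lroots) (t : K) (a : chevF4.Idx) (j : Fin 4) :
    (X r t : GL chevF4.Idx K).val a (emb j) =
      if a = emb j then 1 else if ∃ i, a = emb i ∧ (r, i, j) ∈ tbl then t else 0 := by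
  have hr' : r < chevF4.nroots := (by decide +kernel : ∀ r ∈ lroots, r < chevF4.nroots) r hr
  obtain ⟨h1, h2, h3⟩ := chain_facts ⟨r, hr'⟩ hr j
  rw [xG_val, ChevalleyDatum.x, dif_pos hr']
  show chevF4.xMat K ⟨r, hr'⟩ t a (Sum.inr ⟨quad j, quad_lt j⟩) = _
  simp only [ChevalleyDatum.xMat, Matrix.of_apply, Fin.ext_iff, h1, h2, if_false]
  rcases a with i | u
  · simp [emb]
  · have hu : (Sum.inr u : chevF4.Idx) = emb j ↔ (u : ℕ) = quad j := by simp [emb, Fin.ext_iff]
    simp only [hu]
    rcases h3 u with h | ⟨i, hui, hij, hmem, hk, hc⟩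
    · have hno : ¬ ∃ i, (Sum.inr u : chevF4.Idx) = emb i ∧ (r, i, j) ∈ tbl := by
        rintro ⟨i, e, hm⟩
        simp only [emb, Sum.inr.injEq, Fin.ext_iff] at e
        have := chain_full _ hm
        simp only [← e, h, ne_eq, not_true_eq_false] at this
      simp [h, hno]
    · have hne : (u : ℕ) ≠ quad j := fun e => hij (emb_injective (by
        simp [emb, Fin.ext_iff, ← e, hui]))
      rw [if_neg hne, if_neg hne, zero_add,
        if_pos ⟨i, by simp [emb, Fin.ext_iff, hui], hmem⟩]
      obtain ⟨⟨k, c⟩, hl⟩ : ∃ p, chevF4.chainCoeff r (quad j) u = [p] :=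
        List.length_eq_one_iff.1 (by
          have := congrArg List.length hk
          simpa using this)
      rw [hl] at hk hc ⊢
      simp only [List.map_cons, List.map_nil, List.cons.injEq, and_true] at hk hc
      simp [hk, int_cast_of_natAbs hc]

/-- The matrices keeping the four coordinates. -/
def Keep (g : Matrix chevF4.Idx chevF4.Idx K) : Prop :=
  ∀ a : chevF4.Idx, ∀ j : Fin 4, (∀ i, emb i ≠ a) → g a (emb j) = 0

/-- The matrix on the four coordinates. -/
def res (g : Matrix chevF4.Idx chevF4.Idx K) : Matrix (Fin 4) (Fin 4) K := g.submatrix emb emb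

omit [CharP K 2] in
theorem res_mul {g h : Matrix chevF4.Idx chevF4.Idx K} (hh : Keep h) :
    res (g * h) = res g * res h := by
  ext i j
  simp only [res, Matrix.submatrix_apply, Matrix.mul_apply]
  refine (Fintype.sum_of_injective emb emb_injective _ _ ?_ fun _ => rfl).symm
  intro a ha
  rw [hh a j fun i hi => ha ⟨i, hi⟩, mul_zero]

omit [CharP K 2] in
theorem Keep.mul {g h : Matrix chevF4.Idx chevF4.Idx K} (hg : Keep g) (hh : Keep h) :
    Keep (g * h) := by
  intro a j ha
  rw [Matrix.mul_apply]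
  refine Finset.sum_eq_zero fun b _ => ?_
  by_cases hb : ∃ i, emb i = b
  · obtain ⟨i, rfl⟩ := hb
    rw [hg a i ha, zero_mul]
  · push Not at hb
    rw [hh b j hb, mul_zero]

omit [CharP K 2] in
theorem keep_one : Keep (1 : Matrix chevF4.Idx chevF4.Idx K) := fun a j ha =>
  Matrix.one_apply_ne fun e => ha j e.symm

omit [CharP K 2] in
theorem res_one : res (1 : Matrix chevF4.Idx chevF4.Idx K) = 1 :=
  Matrix.submatrix_one _ emb_injective

theorem keep_X {r : ℕ} (hr : r ∈ lroots) (t : K) : Keep (X r t : GL chevF4.Idx K).val := by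
  intro a j ha
  rw [x_col hr, if_neg (fun e => ha j e.symm), if_neg]
  rintro ⟨i, e, -⟩
  exact ha i e.symm

/-- The matrix of a root element. -/
def rx (r : ℕ) (t : K) : Matrix (Fin 4) (Fin 4) K :=
  Matrix.of fun i j => if i = j then 1 else if (r, i, j) ∈ tbl then t else 0

theorem res_X {r : ℕ} (hr : r ∈ lroots) (t : K) :
    res (X r t : GL chevF4.Idx K).val = rx r t := by
  ext i j
  simp only [res, Matrix.submatrix_apply, x_col hr, rx, Matrix.of_apply, emb_injective.eq_iff]
  congr 1
  refine if_congr ⟨?_, fun h => ⟨i, rfl, h⟩⟩ rfl rfl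
  rintro ⟨k, e, h⟩
  rwa [← e] at h

/-- The elements keeping the four coordinates. -/
def keepM : Submonoid (GL chevF4.Idx K) where
  carrier := {g | Keep g.val}
  one_mem' := by show Keep _; rw [Units.val_one]; exact keep_one
  mul_mem' := fun {a b} ha hb => by
    show Keep _
    rw [Units.val_mul]; exact Keep.mul ha hb

/-- The action on the four coordinates. -/
noncomputable def psi : ↥(keepM (K := K)) →* Matrix (Fin 4) (Fin 4) K where
  toFun g := res g.1.val
  map_one' := by simp [res_one]
  map_mul' a b := by rw [Submonoid.coe_mul, Units.val_mul, res_mul b.2]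

variable {m : ℕ}

theorem keep_yB (t u : K) : yB m t u ∈ keepM := by
  rw [yB, W4]
  exact mul_mem (mul_mem (mul_mem (keep_X (by decide) _) (keep_X (by decide) _))
    (keep_X (by decide) _)) (keep_X (by decide) _)

theorem res_yB (hm : IsTheta K m) (t u : K) :
    res (yB m t u).val = Suzuki.translMat m (th K m t) (th K m t * t + u) := by
  rw [yB, W4, Units.val_mul, Units.val_mul, Units.val_mul,
    res_mul (keep_X (by decide) _), res_mul (keep_X (by decide) _), res_mul (keep_X (by decide) _),
    res_X (by decide), res_X (by decide), res_X (by decide), res_X (by decide)]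
  have hs : ∀ z : K, z ^ 2 ^ (m + 1) = th K m z ^ 2 := fun z => by
    rw [th_apply, ← pow_mul, pow_succ]
  have h1 : th K m t ^ 2 ^ (m + 1) = t := by rw [hs, th_th hm]
  ext i j
  fin_cases i <;> fin_cases j <;>
    simp [Matrix.mul_apply, Fin.sum_univ_four, rx, tbl, Suzuki.translMat, h1,
      RankOne.Ovoid.vPt] <;>
    simp [pow_add _ (2 ^ (m + 1)) 2, h1, hs, CharTwo.add_sq, mul_pow, map_add, map_mul,
      th_th hm] <;>
    grind [two_eq]

theorem res_word : ∀ l : List (ℕ × K), (∀ p ∈ l, p.1 ∈ lroots) →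
    wordG facts_chevF4 l ∈ keepM ∧
      res (wordG facts_chevF4 l).val = (l.map fun p => rx p.1 p.2).prod
  | [], _ => ⟨by simpa [wordG] using Submonoid.one_mem (keepM (K := K)), by simp [wordG, res_one]⟩
  | p :: l, h => by
    obtain ⟨h1, h2⟩ := res_word l fun q hq => h q (List.mem_cons_of_mem _ hq)
    have e : wordG facts_chevF4 (p :: l) = X p.1 p.2 * wordG facts_chevF4 l := by simp [wordG]
    have hk := keep_X (h p (List.mem_cons_self ..)) p.2
    refine ⟨e ▸ mul_mem hk h1, ?_⟩
    rw [e, Units.val_mul, res_mul h1, res_X (h p (List.mem_cons_self ..)), h2, List.map_cons,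
      List.prod_cons]

/-- The word of the reflection. -/
def sWord : List (ℕ × K) :=
  [(27, 0), (25, 0), (28, 1), (30, 1), (20, 1), (22, 1), (19, 0), (17, 1),
   (27, 1), (25, 1), (28, 1), (30, 0)]

theorem sO_word : (sO 1 : GL chevF4.Idx K) = wordG facts_chevF4 sWord := by
  rw [sO_one_eq (m := 0), zB_eq, wordG_b2]
  simp [yB, W4, wordG, sWord, th_apply, f4ma, f4mb, f4mab, f4maab, mul_assoc,
    CharTwo.add_self_eq_zero]

theorem keep_sO : (sO 1 : GL chevF4.Idx K) ∈ keepM := by
  rw [sO_word]; exact (res_word _ (by simp [sWord, lroots])).1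

theorem res_sO : res (sO 1 : GL chevF4.Idx K).val = Suzuki.revMat K := by
  rw [sO_word, (res_word _ (by simp [sWord, lroots])).2]
  set ι : ZMod 2 →+* K := ZMod.castHom (dvd_refl 2) K
  have hmap : ∀ (r : ℕ) (t : ZMod 2), (rx r t).map ι = rx r (ι t) := fun r t => by
    ext i j
    simp only [Matrix.map_apply, rx, Matrix.of_apply]
    split_ifs <;> simp
  have e : ((sWord (K := K)).map fun p => rx p.1 p.2) =
      ((sWord (K := ZMod 2)).map fun p => rx p.1 p.2).map ι.mapMatrix := by
    simp [sWord, hmap]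
  rw [e, ← map_list_prod,
    (by decide +kernel : ((sWord (K := ZMod 2)).map fun p => rx p.1 p.2).prod =
      Suzuki.revMat (ZMod 2))]
  ext i j
  fin_cases i <;> fin_cases j <;> simp [Suzuki.revMat]

end Cfsg.Agent.F4Square
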