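import Cfsg.Agent.F4Square.Levi
import Cfsg.Agent.F4Square.Descent
import Cfsg.Agent.Suzuki.Square

/-!
The Levi subgroup of type `²B₂` of `²F₄` is a Suzuki group, and the class of a suitable element
squared covers its nonidentity elements.
-/

set_option autoImplicit false
set_option maxRecDepth 100000
set_option maxHeartbeats 1000000

namespace Cfsg.Agent.F4Square

open Cfsg.Lie Cfsg.Agent.Chev Cfsg.Agent.Chev.ReeF4 Cfsg.Agent.Chev.ReeF4Mult
open scoped MatrixGroups Matrix

universe u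

theorem quad_cartan : ∀ j l : Fin 4, chevF4.cartan (l : ℕ) (quad j) =
    (([[0, 1, 0, -1], [1, -1, 1, -1], [1, 1, -1, 0], [2, -1, 0, 0]] : List (List ℤ)).getD
      (j : ℕ) []).getD (l : ℕ) 0 := by
  decide +kernel

variable {K : Type u} [Field K] [CharP K 2] {m : ℕ}

/-- The generators of the Levi subgroup. -/
def lGens (K : Type u) [Field K] [CharP K 2] (m : ℕ) : Set (GL chevF4.Idx K) :=
  {g | (∃ t u, g = yB m t u) ∨ (∃ b : Kˣ, g = tor m (1, b)) ∨ g = sO 1}

/-- The Levi subgroup of type `²B₂`. -/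
noncomputable def LL (K : Type u) [Field K] [CharP K 2] (m : ℕ) : Subgroup (GL chevF4.Idx K) :=
  Subgroup.closure (lGens K m)

theorem yB_mem_LL (t u : K) : yB m t u ∈ LL K m := Subgroup.subset_closure (Or.inl ⟨t, u, rfl⟩)

theorem tor_mem_LL (b : Kˣ) : tor m (1, b) ∈ LL K m :=
  Subgroup.subset_closure (Or.inr (Or.inl ⟨b, rfl⟩))

theorem sO_mem_LL : (sO 1 : GL chevF4.Idx K) ∈ LL K m := Subgroup.subset_closure (Or.inr (Or.inr rfl))

theorem Ym_mem_LL {c : GL chevF4.Idx K} (h : Ym K m 1 c) : c ∈ LL K m := by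
  obtain ⟨t, u, e⟩ := mem_fm_B h
  have : c = sO 1 * yB m t u * sO 1 := by
    rw [← e, show sO 1 * (sO 1 * c * sO 1) * sO 1 = (sO 1 * sO 1) * c * (sO 1 * sO 1 : GL chevF4.Idx K) by group,
      sO_sq, one_mul, mul_one]
  rw [this]
  exact Subgroup.mul_mem _ (Subgroup.mul_mem _ sO_mem_LL (yB_mem_LL _ _)) sO_mem_LL

theorem fm_mem_LL {c : GL chevF4.Idx K} (h : c ∈ fm K m (wA 1)) : c ∈ LL K m := by
  obtain ⟨t, u, rfl⟩ := mem_fm_B h
  exact yB_mem_LL _ _

theorem keep_tor (p : Kˣ × Kˣ) : tor m p ∈ keepM (K := K) := by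
  intro a j ha
  show (torusHom _ : GL chevF4.Idx K).val a (emb j) = 0
  exact Matrix.diagonal_apply_ne _ fun e => ha j e.symm

/-- The values of a torus element on the four coordinates. -/
noncomputable def torD (m : ℕ) (p : Kˣ × Kˣ) : Fin 4 → Kˣ :=
  ![uT m p.2 * p.1⁻¹, uT m p.1 * (uT m p.2)⁻¹ * p.2 * p.1⁻¹, uT m p.1 * uT m p.2 * p.2⁻¹,
    uT m p.1 ^ 2 * (uT m p.2)⁻¹]

theorem res_tor (p : Kˣ × Kˣ) :
    res (tor m p : GL chevF4.Idx K).val = Matrix.diagonal fun j => (torD m p j : K) := by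
  ext i j
  show Matrix.diagonal _ (emb i) (emb j) = _
  by_cases h : i = j
  · subst h
    rw [Matrix.diagonal_apply_eq, Matrix.diagonal_apply_eq]
    show ((chiU _ (quad i) : Kˣ) : K) = _
    congr 1
    show ∏ l : Fin 4, tv (Units.map (th K m).toMonoidHom p.1) (Units.map (th K m).toMonoidHom p.2) p.2 p.1 l ^
      chevF4.cartan l (quad i) = _
    simp only [quad_cartan, Fin.prod_univ_four]
    fin_cases i <;> simp [tv, torD, uT, zpow_ofNat] <;> rfl
  · rw [Matrix.diagonal_apply_ne _ fun e => h (emb_injective e), Matrix.diagonal_apply_ne _ h]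

variable [Fintype K]

/-- The elements keeping the four coordinates, as a subgroup. -/
noncomputable def keepG : Subgroup (GL chevF4.Idx K) where
  toSubmonoid := keepM
  inv_mem' := by
    intro g hg
    rw [inv_eq_of_mul_eq_one_right (b := g ^ (orderOf g - 1))
      (by rw [← pow_succ', Nat.sub_add_cancel (orderOf_pos g), pow_orderOf_eq_one])]
    exact pow_mem (show g ∈ keepM from hg) _

theorem LL_keep : LL K m ≤ keepG := by
  refine (Subgroup.closure_le _).2 ?_
  rintro g (⟨t, u, rfl⟩ | ⟨b, rfl⟩ | rfl)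
  exacts [keep_yB t u, keep_tor _, keep_sO]

theorem res_LL_mul {g h : GL chevF4.Idx K} (hh : h ∈ LL K m) :
    res (g * h).val = res g.val * res h.val := by
  rw [Units.val_mul, res_mul (LL_keep hh)]

variable (hK : Fintype.card K = 2 ^ (2 * m + 1)) (hm1 : 1 ≤ m)
include hK

theorem uT_surj : Function.Surjective (uT (K := K) m) := by
  refine Finite.injective_iff_surjective.1 fun x y e => ?_
  rw [← uT_uT (isTheta hK) x, ← uT_uT (isTheta hK) y, e]

theorem res_tor_one (b : Kˣ) :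
    res (tor m (1, b) : GL chevF4.Idx K).val = Suzuki.torMat m ((uT m b : Kˣ) : K) := by
  have hm := isTheta hK
  have h1 : ((uT m b : Kˣ) : K) ^ (2 ^ (m + 1)) = b := by
    rw [pow_succ, pow_mul, ← th_apply]
    exact th_th hm _
  rw [res_tor, Suzuki.torMat]
  congr 1
  funext j
  fin_cases j <;> simp [torD, Suzuki.torVec, h1, Units.val_inv_eq_inv_val, div_eq_mul_inv, mul_comm]

/-- The element of the Suzuki group realised by an element of the Levi subgroup. -/
theorem exists_sz {g : GL chevF4.Idx K} (hg : g ∈ LL K m) : ∃ z : Cfsg.Sz K m,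
    res g.val = ((z : Matrix.SpecialLinearGroup (Fin 4) K) : Matrix (Fin 4) (Fin 4) K) := by
  have hG := RankOne.Ovoid.good_of_card (m := m) hK
  induction hg using Subgroup.closure_induction with
  | mem x hx =>
    rcases hx with ⟨t, u, rfl⟩ | ⟨b, rfl⟩ | rfl
    · exact ⟨Suzuki.T hG _ _, res_yB (isTheta hK) t u⟩
    · exact ⟨Suzuki.H hG (uT m b), res_tor_one hK b⟩
    · exact ⟨Suzuki.J hG, res_sO⟩
  | one => exact ⟨1, by simp [res_one]⟩
  | mul x y hx hy ihx ihy =>
    obtain ⟨a, ha⟩ := ihx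
    obtain ⟨b, hb⟩ := ihy
    exact ⟨a * b, by rw [res_LL_mul hy, ha, hb]; rfl⟩
  | inv x hx ih =>
    obtain ⟨a, ha⟩ := ih
    refine ⟨a⁻¹, ?_⟩
    have h1 : res (x⁻¹).val * res x.val = 1 := by rw [← res_LL_mul hx, inv_mul_cancel]; simp [res_one]
    rw [ha] at h1
    have h2 : ((a : Matrix.SpecialLinearGroup (Fin 4) K) : Matrix (Fin 4) (Fin 4) K) *
        ((a⁻¹ : Cfsg.Sz K m) : Matrix.SpecialLinearGroup (Fin 4) K) = 1 := by
      rw [← Matrix.SpecialLinearGroup.coe_mul, ← Subgroup.coe_mul, mul_inv_cancel]; simp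
    exact left_inv_eq_right_inv h1 h2

/-- The map to the Suzuki group. -/
noncomputable def toSz : ↥(LL K m) →* Cfsg.Sz K m :=
  MonoidHom.mk' (fun g => Classical.choose (exists_sz hK g.2)) fun a b => by
    refine Subtype.ext (Subtype.ext ?_)
    refine (Classical.choose_spec (exists_sz hK (a * b).2)).symm.trans ?_
    refine (res_LL_mul (g := a.1) b.2).trans ?_
    exact congrArg₂ (· * ·) (Classical.choose_spec (exists_sz hK a.2))
      (Classical.choose_spec (exists_sz hK b.2))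

theorem toSz_val (g : ↥(LL K m)) :
    ((toSz hK g : Matrix.SpecialLinearGroup (Fin 4) K) : Matrix (Fin 4) (Fin 4) K) = res g.1.val :=
  (Classical.choose_spec (exists_sz hK g.2)).symm

include hm1 in
theorem toSz_surj : Function.Surjective (toSz hK) := by
  have hG := RankOne.Ovoid.good_of_card (m := m) hK
  have hm := isTheta hK
  rw [← MonoidHom.range_eq_top]
  refine Suzuki.eq_top_of_gen hG hm1 hK _ (fun a b => ?_) (fun a => ?_) ⟨⟨_, sO_mem_LL⟩, ?_⟩
  · refine ⟨⟨_, yB_mem_LL (th K m a ^ 2) (b + a * th K m a ^ 2)⟩, Subtype.ext (Subtype.ext ?_)⟩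
    rw [toSz_val]
    show res (yB m _ _).val = Suzuki.translMat m a b
    rw [res_yB hm, map_pow, th_th hm]
    congr 1
    linear_combination (a * th K m a ^ 2) * two_eq (K := K)
  · obtain ⟨b, rfl⟩ := uT_surj hK a
    exact ⟨⟨_, tor_mem_LL b⟩, Subtype.ext (Subtype.ext ((toSz_val hK _).trans (res_tor_one hK b)))⟩
  · exact Subtype.ext (Subtype.ext ((toSz_val hK _).trans res_sO))

/-- The chosen central torus element. -/
noncomputable def zz (m : ℕ) (c : Kˣ) : GL chevF4.Idx K := TwoGen.hh m c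

omit [Fintype K] hK in
theorem zz_mem (c : Kˣ) : zz m c ∈ T1 K m := ⟨_, rfl⟩

theorem zz_central (c : Kˣ) {g : GL chevF4.Idx K} (hg : g ∈ LL K m) : Commute (zz m c) g := by
  have hm := isTheta hK
  induction hg using Subgroup.closure_induction with
  | mem x hx =>
    rcases hx with ⟨t, u, rfl⟩ | ⟨b, rfl⟩ | rfl
    · exact TwoGen.hh_commute_yB hm c t u
    · exact (Commute.all (TwoGen.fstPar m c, c) (1, b)).map (tor m)
    · have e := sO_tor (K := K) hm 1 (TwoGen.fstPar m c, c)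
      rw [show sAct m 1 (TwoGen.fstPar m c, c) = (TwoGen.fstPar m c, c) from Prod.ext (by simp [sAct]) ?_] at e
      · show tor m _ * sO 1 = sO 1 * tor m _
        conv_lhs => rw [← e, mul_assoc, sO_sq, mul_one]
      · show TwoGen.fstPar m c ^ 2 * uT m (TwoGen.fstPar m c) ^ 2 * c⁻¹ = c
        have h2 : uT m (TwoGen.fstPar m c) = uT m c ^ 2 * c⁻¹ := TwoGen.theta_fstPar hm c
        rw [h2, TwoGen.fstPar]
        apply Additive.ofMul.injective
        show _ = Additive.ofMul c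
        simp only [uT, TwoGen.tu, ofMul_mul, ofMul_inv, ofMul_pow]
        abel
  | one => exact Commute.one_right _
  | mul x y _ _ hx hy => exact hx.mul_right hy
  | inv x _ hx => exact hx.inv_right

theorem chi_zz_ne {c : Kˣ} (hc : c ≠ 1) {i : ℕ} (hi : i ∈ [0, 3, 4, 5, 6, 7, 8, 9, 10, 11]) :
    chi m i (TwoGen.fstPar m c, c) ≠ 1 := by
  have hm := isTheta hK
  intro e
  refine hc (ev_eq_one hm (P := comp (exps.getD i 0).1 (1, -1) + (exps.getD i 0).2) ?_ ?_)
  · exact (by decide +kernel : ∀ i ∈ [0, 3, 4, 5, 6, 7, 8, 9, 10, 11],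
      unitNorm (comp (exps.getD i 0).1 (1, -1) + (exps.getD i 0).2)) i hi
  · have h1 : TwoGen.fstPar m c = ev m (2 * 1, 2 * -1) c := by
      simp [TwoGen.fstPar, ev, uT, zpow_neg]; rfl
    simp only [ReeF4Mult.chi, h1] at e
    rw [ev_ev hm (exps.getD i 0).1 (1, -1)] at e
    rw [← e]
    simp only [ev, Prod.fst_add, Prod.snd_add, zpow_add]
    exact mul_mul_mul_comm _ _ _ _

/-- An element of `U` commuting with a nontrivial central element is in the piece of the orbit. -/
theorem fixed_fm {c : Kˣ} (hc : c ≠ 1) {w : GL chevF4.Idx K} (hw : w ∈ U1 K m)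
    (h : zz m c * w = w * zz m c) : w ∈ fm K m (wA 1) := by
  have hm := isTheta hK
  obtain ⟨v, rfl⟩ := ReeF4Invol.exists_P hK hw
  have e : tor m (TwoGen.fstPar m c, c) * ReeF4Invol.P m v * (tor m (TwoGen.fstPar m c, c))⁻¹ =
      ReeF4Invol.P m v := by
    rw [show tor m (TwoGen.fstPar m c, c) = zz m c from rfl, h]; group
  rw [tor_conj_P hK] at e
  have h0 : ∀ i ∈ [0, 3, 4, 5, 6, 7, 8, 9, 10, 11], v i = 0 := fun i hi => by
    by_contra hv
    have := ReeF4Invol.P_inj e i ((by decide : ∀ i ∈ [0, 3, 4, 5, 6, 7, 8, 9, 10, 11], i < 12) i hi)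
    exact chi_zz_ne hK hc hi (Units.ext ((mul_eq_right₀ hv).1 this))
  have hB : yB m (0 : K) 0 = 1 := by simp [yB, W4_zero]
  have hA : yA m (0 : K) = 1 := by simp [yA, W2_zero]
  rw [ReeF4Invol.pieces, h0 0 (by simp), h0 3 (by simp), h0 4 (by simp), h0 5 (by simp),
    h0 6 (by simp), h0 7 (by simp), h0 8 (by simp), h0 9 (by simp), h0 10 (by simp),
    h0 11 (by simp), hA, hB]
  simp only [one_mul, mul_one, mul_inv_cancel]
  exact yB_mem_fm hm _ _

theorem LL_le_Pa : LL K m ≤ Pa K m 1 := by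
  refine (Subgroup.closure_le _).2 ?_
  rintro g (⟨t, u, rfl⟩ | ⟨b, rfl⟩ | rfl)
  exacts [fm_mem_Pa (yB_mem_fm (isTheta hK) t u), torus_mem_Pa (isTheta hK) 1 ⟨_, rfl⟩, sO_mem_Pa 1]

theorem Pa_le_G (a : Fin 2) : Pa K m a ≤ twistedF4 K (2 ^ m) := fun g hg => by
  rw [← fx_eq hK]; exact hg.2

include hm1 in
theorem eq_one_of_res {g : GL chevF4.Idx K} (hg : g ∈ LL K m) (h1 : res g.val = 1) : g = 1 := by
  have hm := isTheta hK
  obtain ⟨c, hc, -⟩ := exists_unit_ne_one hK hm1
  have hz := zz_central hK c hg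
  have hP := LL_le_Pa hK hg
  obtain ⟨u, hu, h, hh, k, x, hx, e⟩ := exists_nf hP.2
  have hn : (nWord facts_chevF4 (flat (wd k)) : GL chevF4.Idx K) ∈
      chevF4.parabolicSubgroup K (jA 1) := by
    show nW (wd k) ∈ _
    have hBP := borel_le_parabolic (jA 1) (D := chevF4) (F := K)
    rw [show (nW (wd k) : GL chevF4.Idx K) = (u * h)⁻¹ * g * x⁻¹ by rw [e]; group]
    exact Subgroup.mul_mem _ (Subgroup.mul_mem _ (Subgroup.inv_mem _ (Subgroup.mul_mem _
      (hBP (Subgroup.mem_sup_left hu.1))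
      (hBP (Subgroup.mem_sup_right (T1_le_diagonal hh))))) hP.1)
      (Subgroup.inv_mem _ (hBP (uMinus_le_borel facts_chevF4 _ hx.1)))
  have hW := pWord_mem_of_nWord_mem facts_chevF4 (jA 1) hn
  have hJ : idxSet chevF4 (jA 1) = nodes 1 := by
    ext i
    rw [mem_idxSet, mem_nodes]
    exact ⟨fun ⟨j, hj, e⟩ => Fin.ext e ▸ hj, fun h => ⟨i, h, rfl⟩⟩
  rw [hJ] at hW
  obtain ⟨p, rfl⟩ := hh
  have hzt : Commute (zz m c) (tor m p) := (Commute.all _ _).map (tor m)
  rcases rank_one (inW1_pW (wd k)) hW with hk | hk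
  · rw [hk, fm_one, Subgroup.mem_bot] at hx
    rw [hx, nW_congr (vs := []) (hk.trans pW_nil.symm), nW_nil, mul_one, mul_one] at e
    have hu' : zz m c * u = u * zz m c := by
      refine mul_right_cancel (b := tor m p) ?_
      rw [mul_assoc, ← e, hz.eq, e, mul_assoc u, ← hzt.eq, mul_assoc]
    obtain ⟨t, w, rfl⟩ := mem_fm_B (fixed_fm hK hc hu hu')
    rw [e, Units.val_mul, res_mul (keep_tor p), res_yB hm, res_tor] at h1
    have key : ∀ i j, (Suzuki.translMat m (th K m t) (th K m t * t + w) : Matrix (Fin 4) (Fin 4) K) i j *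
        (torD m p j : K) = (1 : Matrix (Fin 4) (Fin 4) K) i j := fun i j => by
      rw [← h1, Matrix.mul_diagonal]
    have ht : t = 0 := by
      have h := key 0 1
      simpa [Suzuki.translMat] using h
    have hw : w = 0 := by
      have h := key 1 3
      simpa [Suzuki.translMat, ht] using h
    have hd : ∀ j, torD m p j = 1 := fun j => by
      have h := key j j
      refine Units.ext ?_
      rw [Units.val_one]
      fin_cases j <;> simpa [Suzuki.translMat] using h
    have d0 : uT m p.2 * p.1⁻¹ = 1 := hd 0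
    have d2 : uT m p.1 * uT m p.2 * p.2⁻¹ = 1 := hd 2
    have d3 : uT m p.1 ^ 2 * (uT m p.2)⁻¹ = 1 := hd 3
    rw [mul_inv_eq_one] at d0 d2 d3
    rw [← d0, uT_uT hm] at d3
    rw [← d0, ← d3] at d2
    have hq : p.2 = 1 := by
      have h2 := congrArg (fun x => x ^ 2) d2
      simp only [mul_pow, uT_uT hm] at h2
      rw [← d3] at h2
      rw [← d3] at d0
      have h3 : p.2 ^ 2 = 1 := mul_eq_right.1 h2
      exact Units.ext (CharTwo.sq_inj.1 (by rw [← Units.val_pow_eq_pow_val, h3]; simp))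
    have hp1 : p.1 = 1 := by rw [← d0, hq, map_one]
    rw [e, ht, hw, show p = (1, 1) from Prod.ext hp1 hq]
    rw [show (((1, 1) : Kˣ × Kˣ)) = 1 from rfl, map_one]
    simp [yB, W4_zero]
  · exfalso
    rw [nW_congr (vs := [1]) (hk.trans (pW_single 1).symm), nW_single] at e
    rw [hk] at hx
    have hxL := fm_mem_LL hx
    have hu' : zz m c * u = u * zz m c := by
      refine mul_right_cancel (b := tor m p * sO 1 * x) ?_
      have h2 := (hzt.mul_right (zz_central hK c sO_mem_LL)).mul_right (zz_central hK c hxL)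
      calc zz m c * u * (tor m p * sO 1 * x) = zz m c * g := by rw [e]; group
        _ = g * zz m c := hz.eq
        _ = u * (tor m p * sO 1 * x * zz m c) := by rw [e]; group
        _ = _ := by rw [← h2.eq]; group
    obtain ⟨t, w, rfl⟩ := mem_fm_B (fixed_fm hK hc hu hu')
    obtain ⟨t', w', rfl⟩ := mem_fm_B hx
    rw [e, res_LL_mul (yB_mem_LL (m := m) t' w'), res_LL_mul (sO_mem_LL (m := m)), Units.val_mul, res_mul (keep_tor p),
      res_yB hm, res_yB hm, res_tor, res_sO] at h1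
    have := congrFun (congrFun h1 3) 0
    simp [Matrix.mul_apply, Matrix.vecMul, dotProduct, Fin.sum_univ_four, Suzuki.translMat, Suzuki.revMat, Matrix.diagonal, Matrix.vecHead, Matrix.vecTail] at this

include hm1 in
theorem toSz_injective : Function.Injective (toSz hK) := (injective_iff_map_eq_one _).2 fun g hg => by
  refine Subtype.ext (eq_one_of_res hK hm1 g.2 ?_)
  rw [← toSz_val hK g, hg]
  simp

include hm1 in
/-- An element of the Levi subgroup whose class squared covers the nonidentity elements. -/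
theorem exists_cover : ∃ s ∈ LL K m, ∃ k : ℕ, s ^ k = 1 ∧ Odd k ∧ Nat.Coprime k (Fintype.card K - 1) ∧
    ∀ M ∈ LL K m, M ≠ 1 → ∃ a ∈ LL K m, ∃ b ∈ LL K m, M = (a * s * a⁻¹) * (b * s * b⁻¹) := by
  classical
  haveI : Fintype (Cfsg.Sz K m) := Fintype.ofFinite _
  obtain ⟨-, -, -, Kp, -, -, -, -, -, -, hcard, -⟩ := Suzuki.Square.exists_setup hm1 hK
  set k : ℕ := 2 ^ (2 * m + 1) + 2 ^ (m + 1) + 1 with hk
  have hodd : Odd k := ⟨2 ^ (2 * m) + 2 ^ m, by rw [hk]; ring⟩
  obtain ⟨s, hs, hs1⟩ : ∃ s ∈ Kp, s ≠ 1 := by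
    by_contra hno
    push Not at hno
    rw [(Subgroup.eq_bot_iff_forall Kp).2 hno, Subgroup.card_bot] at hcard
    have : 0 < 2 ^ (m + 1) := by positivity
    omega
  have hsk : s ^ k = 1 := orderOf_dvd_iff_pow_eq_one.1 (hcard ▸ Kp.orderOf_dvd_natCard hs)
  have h2 : 2 < orderOf s := by
    have hd := orderOf_dvd_of_pow_eq_one hsk
    have h0 : orderOf s ≠ 1 := fun h => hs1 (orderOf_eq_one_iff.1 h)
    have hne : orderOf s ≠ 2 := fun h => (Nat.not_even_iff_odd.2 hodd) (even_iff_two_dvd.2 (h ▸ hd))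
    have := orderOf_pos s
    omega
  obtain ⟨g, hg⟩ := toSz_surj hK hm1 s
  refine ⟨g, g.2, k, ?_, hodd, ?_, fun M hM hM1 => ?_⟩
  · have : g ^ k = 1 := toSz_injective hK hm1 (by rw [map_pow, hg, hsk, map_one])
    exact congrArg Subtype.val this
  · rw [hK]
    refine Nat.coprime_of_dvd' fun d hd h1 h2 => ?_
    have hr : 2 ^ (2 * m + 1) = 2 * (2 ^ m) ^ 2 := by rw [← pow_mul, pow_succ', mul_comm m 2]
    set r := 2 ^ m with hrdef
    have hq1 : 1 ≤ 2 * r ^ 2 := by have : 0 < r := by positivity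
                                   nlinarith
    rw [hk, hr, show 2 ^ (m + 1) = 2 * r by rw [pow_succ', hrdef]] at h1
    rw [hr] at h2
    have e1 : d ∣ 2 * (r + 1) := by
      have := Nat.dvd_sub h1 h2
      rwa [show 2 * r ^ 2 + 2 * r + 1 - (2 * r ^ 2 - 1) = 2 * (r + 1) by omega] at this
    have hd2 : d ≠ 2 := by
      rintro rfl
      obtain ⟨w, hw⟩ := h2
      omega
    have e2 : d ∣ r + 1 := (Nat.Coprime.dvd_of_dvd_mul_left
      ((Nat.coprime_primes hd Nat.prime_two).2 hd2) e1)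
    have e3 : (d : ℤ) ∣ 1 := by
      have i1 : (d : ℤ) ∣ (r : ℤ) + 1 := by exact_mod_cast e2
      have i2 : (d : ℤ) ∣ 2 * (r : ℤ) ^ 2 - 1 := by
        have := Int.natCast_dvd_natCast.2 h2
        push_cast [hq1] at this
        exact this
      have := Int.dvd_sub i2 (i1.mul_left (2 * ((r : ℤ) - 1)))
      rwa [show 2 * (r : ℤ) ^ 2 - 1 - 2 * ((r : ℤ) - 1) * ((r : ℤ) + 1) = 1 by ring] at this
    exact Int.natCast_dvd_natCast.1 (by simpa using e3)
  · obtain ⟨a, b, e⟩ := Suzuki.Square.covers hm1 hK (x := s) (g := toSz hK ⟨M, hM⟩) h2 fun h =>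
      hM1 (congrArg Subtype.val (toSz_injective hK hm1 (h.trans (map_one (toSz hK)).symm)))
    obtain ⟨a', rfl⟩ := toSz_surj hK hm1 a
    obtain ⟨b', rfl⟩ := toSz_surj hK hm1 b
    refine ⟨a', a'.2, b', b'.2, ?_⟩
    have := toSz_injective hK hm1 (a₁ := ⟨M, hM⟩) (a₂ := (a' * g * a'⁻¹) * (b' * g * b'⁻¹))
      (by simp [e, hg])
    exact congrArg Subtype.val this

end Cfsg.Agent.F4Square
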